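import Mathlib
import Cfsg.Agent.Fischer480.Defs

set_option autoImplicit false

/-!
# The transpositions of six letters are the points of the symplectic space of dimension four
-/

namespace Cfsg.Agent.Fischer886.SymSix

open Cfsg Cfsg.Agent.Fischer480.Defs

universe u

/-- the Gram matrix -/
def gram : Matrix (Fin 4) (Fin 4) (ZMod 2) :=
  !![0, 1, 0, 0; 1, 0, 1, 0; 0, 1, 0, 1; 0, 0, 1, 0]

/-- the potential -/
def pot : Fin 6 → Fin 4 → ZMod 2 :=
  ![![0, 0, 0, 0], ![1, 0, 0, 0], ![1, 1, 0, 0], ![1, 1, 1, 0], ![1, 1, 1, 1], ![0, 1, 0, 1]]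

/-- the form -/
noncomputable def form : LinearMap.BilinForm (ZMod 2) (Fin 4 → ZMod 2) := Matrix.toBilin' gram

theorem form_apply (v w : Fin 4 → ZMod 2) :
    form v w = v 0 * w 1 + v 1 * w 0 + v 1 * w 2 + v 2 * w 1 + v 2 * w 3 + v 3 * w 2 := by
  rw [form, Matrix.toBilin'_apply]
  simp [Fin.sum_univ_four, gram]
  ring

theorem form_isAlt : form.IsAlt := by
  intro v
  rw [form_apply]
  have : ∀ a b c d : ZMod 2, a * b + b * a + b * c + c * b + c * d + d * c = 0 := by decide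
  exact this _ _ _ _

theorem form_nondegenerate : form.Nondegenerate := by
  rw [form, Matrix.nondegenerate_toBilin'_iff]
  apply Matrix.nondegenerate_of_det_ne_zero
  decide

theorem pot_comm : ∀ i j k l : Fin 6, i ≠ j → k ≠ l →
    ((pot i 0 + pot j 0) * (pot k 1 + pot l 1) + (pot i 1 + pot j 1) * (pot k 0 + pot l 0) +
      (pot i 1 + pot j 1) * (pot k 2 + pot l 2) + (pot i 2 + pot j 2) * (pot k 1 + pot l 1) +
      (pot i 2 + pot j 2) * (pot k 3 + pot l 3) + (pot i 3 + pot j 3) * (pot k 2 + pot l 2) = 0 ↔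
      (i = k ∧ j = l) ∨ (i = l ∧ j = k) ∨ (i ≠ k ∧ i ≠ l ∧ j ≠ k ∧ j ≠ l)) := by
  decide

theorem pot_inj : ∀ i j k l : Fin 6, i ≠ j → k ≠ l → pot i + pot j = pot k + pot l →
    (i = k ∧ j = l) ∨ (i = l ∧ j = k) := by
  decide

theorem pot_ne : ∀ i j : Fin 6, i ≠ j → pot i + pot j ≠ 0 := by decide

theorem pot_surj : ∀ v : Fin 4 → ZMod 2, v ≠ 0 → ∃ i j : Fin 6, i ≠ j ∧ pot i + pot j = v := by
  decide

theorem isSp_of_isSym {G : Type u} [Group G] {E : Set G} (h : IsSym 6 E) : IsSp 2 E := by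
  obtain ⟨f, hcard, hcomm, hinj, hsurj⟩ := h
  have hf : ∀ x ∈ E, ∃ i j, i ≠ j ∧ f x = {i, j} := fun x hx =>
    Finset.card_eq_two.1 (hcard x hx)
  have hval : ∀ i j : Fin 6, i ≠ j → ∑ k ∈ ({i, j} : Finset (Fin 6)), pot k = pot i + pot j :=
    fun i j hij => Finset.sum_pair hij
  refine ⟨form, fun x => ∑ k ∈ f x, pot k, form_isAlt, form_nondegenerate, ?_, ?_, ?_, ?_⟩
  · intro x hx
    obtain ⟨i, j, hij, h⟩ := hf x hx
    show ∑ k ∈ f x, pot k ≠ 0
    rw [h, hval i j hij]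
    exact pot_ne i j hij
  · intro x hx y hy
    obtain ⟨i, j, hij, h⟩ := hf x hx
    obtain ⟨k, l, hkl, h'⟩ := hf y hy
    show Commute x y ↔ form (∑ k ∈ f x, pot k) (∑ k ∈ f y, pot k) = 0
    rw [hcomm x hx y hy, h, h', hval i j hij, hval k l hkl, form_apply]
    have := pot_comm i j k l hij hkl
    simp only [Pi.add_apply]
    rw [this]
    constructor
    · rintro (h1 | h1)
      · have h2 : i ∈ ({k, l} : Finset (Fin 6)) := by rw [← h1]; simp
        have h3 : j ∈ ({k, l} : Finset (Fin 6)) := by rw [← h1]; simp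
        simp only [Finset.mem_insert, Finset.mem_singleton] at h2 h3
        rcases h2 with h2 | h2 <;> rcases h3 with h3 | h3
        · exact absurd (h2.trans h3.symm) hij
        · exact Or.inl ⟨h2, h3⟩
        · exact Or.inr (Or.inl ⟨h2, h3⟩)
        · exact absurd (h2.trans h3.symm) hij
      · rw [Finset.disjoint_left] at h1
        have h2 := h1 (a := i) (by simp)
        have h3 := h1 (a := j) (by simp)
        simp only [Finset.mem_insert, Finset.mem_singleton, not_or] at h2 h3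
        exact Or.inr (Or.inr ⟨h2.1, h2.2, h3.1, h3.2⟩)
    · rintro (⟨rfl, rfl⟩ | ⟨rfl, rfl⟩ | ⟨h1, h2, h3, h4⟩)
      · exact Or.inl rfl
      · exact Or.inl (Finset.pair_comm _ _)
      · right
        rw [Finset.disjoint_left]
        intro a ha hb
        simp only [Finset.mem_insert, Finset.mem_singleton] at ha hb
        rcases ha with rfl | rfl <;> rcases hb with rfl | rfl <;> contradiction
  · intro x hx y hy hxy
    obtain ⟨i, j, hij, h⟩ := hf x hx
    obtain ⟨k, l, hkl, h'⟩ := hf y hy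
    have hxy' : ∑ k ∈ f x, pot k = ∑ k ∈ f y, pot k := hxy
    rw [h, h', hval i j hij, hval k l hkl] at hxy'
    apply hinj x hx y hy
    rw [h, h']
    rcases pot_inj i j k l hij hkl hxy' with ⟨rfl, rfl⟩ | ⟨rfl, rfl⟩
    · rfl
    · exact Finset.pair_comm _ _
  · intro v hv
    obtain ⟨i, j, hij, rfl⟩ := pot_surj v hv
    obtain ⟨x, hx, hx'⟩ := hsurj {i, j} (Finset.card_pair hij)
    refine ⟨x, hx, ?_⟩
    show ∑ k ∈ f x, pot k = pot i + pot j
    rw [hx', hval i j hij]

end Cfsg.Agent.Fischer886.SymSix
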