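import Mathlib
import Cfsg.Agent.ThreeTransPolar.Basic
import Cfsg.Agent.Fischer480.Defs

set_option autoImplicit false

/-!
# Sets of 3-transpositions labelled by the pairs of a set
-/

namespace Cfsg.Agent.Fischer886.Lab

open Cfsg Cfsg.Agent.SporadicStructure.FischerSpace Cfsg.Agent.ThreeTransPolar.Basic
open Cfsg.Agent.Fischer480.Defs

universe u v

variable {G : Type u} [Group G] {D E : Set G} {α : Type v} {t : α → α → G}

/-- `E` is labelled by the pairs of `α` -/
structure Labels (E : Set G) (t : α → α → G) : Prop where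
  mem : ∀ i j, i ≠ j → t i j ∈ E
  symm : ∀ i j, t i j = t j i
  surj : ∀ y ∈ E, ∃ i j, i ≠ j ∧ t i j = y
  com : ∀ i j k l, i ≠ j → k ≠ l → i ≠ k → i ≠ l → j ≠ k → j ≠ l → Commute (t i j) (t k l)
  nc : ∀ i j k, i ≠ j → i ≠ k → j ≠ k → ¬ Commute (t i j) (t i k)

theorem exists_fifth [Fintype α] (h5 : 5 ≤ Fintype.card α) (i j k l : α) :
    ∃ m, m ≠ i ∧ m ≠ j ∧ m ≠ k ∧ m ≠ l := by
  classical
  by_contra hcon
  push Not at hcon
  have h1 : (Finset.univ : Finset α) ⊆ {i, j, k, l} := by
    intro m _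
    simp only [Finset.mem_insert, Finset.mem_singleton]
    by_contra h2
    push Not at h2
    exact h2.2.2.2 (hcon m h2.1 h2.2.1 h2.2.2.1)
  have h2 := Finset.card_le_card h1
  have h3 : ({i, j, k, l} : Finset α).card ≤ 4 := Finset.card_le_four
  rw [Finset.card_univ] at h2
  omega

namespace Labels

theorem nc' (hL : Labels E t) {i j k : α} (hij : i ≠ j) (hjk : j ≠ k) (hik : i ≠ k) :
    ¬ Commute (t i j) (t j k) := by
  rw [hL.symm i j]
  exact hL.nc j i k hij.symm hjk hik

/-- non commuting members have labels sharing one point -/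
theorem share (hL : Labels E t) {y z : G} (hy : y ∈ E) (hz : z ∈ E) (hyz : ¬ Commute y z) :
    ∃ p q r, p ≠ q ∧ q ≠ r ∧ p ≠ r ∧ t p q = y ∧ t q r = z := by
  obtain ⟨i, j, hij, rfl⟩ := hL.surj y hy
  obtain ⟨k, l, hkl, rfl⟩ := hL.surj z hz
  by_cases h1 : i = k
  · subst h1
    refine ⟨j, i, l, hij.symm, hkl, ?_, hL.symm _ _, rfl⟩
    rintro rfl
    exact hyz (Commute.refl _)
  by_cases h2 : i = l
  · subst h2
    refine ⟨j, i, k, hij.symm, hkl.symm, ?_, hL.symm _ _, hL.symm _ _⟩
    rintro rfl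
    exact hyz (by rw [hL.symm])
  by_cases h3 : j = k
  · subst h3
    exact ⟨i, j, l, hij, hkl, h2, rfl, rfl⟩
  by_cases h4 : j = l
  · subst h4
    exact ⟨i, j, k, hij, hkl.symm, h1, rfl, hL.symm _ _⟩
  exact absurd (hL.com i j k l hij hkl h1 h2 h3 h4) hyz

/-- commuting different members have disjoint labels -/
theorem disj (hL : Labels E t) {i j k l : α} (hij : i ≠ j) (hkl : k ≠ l)
    (hne : t i j ≠ t k l) (hc : Commute (t i j) (t k l)) : i ≠ k ∧ i ≠ l ∧ j ≠ k ∧ j ≠ l := by
  refine ⟨?_, ?_, ?_, ?_⟩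
  · rintro rfl
    exact hL.nc i j l hij hkl (fun h => hne (by rw [h])) hc
  · rintro rfl
    rw [hL.symm k i] at hc hne
    exact hL.nc i j k hij hkl.symm (fun h => hne (by rw [h])) hc
  · rintro rfl
    rw [hL.symm i j] at hc hne
    exact hL.nc j i l hij.symm hkl (fun h => hne (by rw [h])) hc
  · rintro rfl
    rw [hL.symm i j, hL.symm k j] at hc hne
    exact hL.nc j i k hij.symm hkl.symm (fun h => hne (by rw [h])) hc

theorem inj [Fintype α] (hL : Labels E t) (h5 : 5 ≤ Fintype.card α) {i j k l : α}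
    (hij : i ≠ j) (hkl : k ≠ l) (h : t i j = t k l) : (i = k ∧ j = l) ∨ (i = l ∧ j = k) := by
  by_cases h1 : i = k
  · subst h1
    left
    refine ⟨rfl, ?_⟩
    by_contra h2
    exact hL.nc i j l hij hkl h2 (by rw [h])
  by_cases h2 : i = l
  · subst h2
    right
    refine ⟨rfl, ?_⟩
    by_contra h3
    exact hL.nc i j k hij hkl.symm h3 (by rw [h, hL.symm k i])
  by_cases h3 : j = k
  · subst h3
    exact absurd (by rw [hL.symm j i, h]) (hL.nc j i l hij.symm hkl h2)
  by_cases h4 : j = l
  · subst h4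
    exact absurd (by rw [hL.symm j i, h, hL.symm k j]) (hL.nc j i k hij.symm hkl.symm h1)
  exfalso
  obtain ⟨m, hm1, hm2, hm3, hm4⟩ := exists_fifth h5 i j k l
  have h6 := hL.nc i j m hij hm1.symm hm2.symm
  rw [h] at h6
  exact h6 (hL.com k l i m hkl hm1.symm (Ne.symm h1) hm3.symm (Ne.symm h2) hm4.symm)

/-- the third point -/
theorem third [Fintype α] (hfd : FData D) (hL : Labels E t) (h5 : 5 ≤ Fintype.card α)
    (hED : E ⊆ D) (hcl : ∀ y ∈ E, ∀ z ∈ E, ¬ Commute y z → cj y z ∈ E) {i j k : α}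
    (hij : i ≠ j) (hjk : j ≠ k) (hik : i ≠ k) : cj (t i j) (t j k) = t i k := by
  have h1 := hL.nc' hij hjk hik
  have hm1 := hL.mem i j hij
  have hm2 := hL.mem j k hjk
  have hw := hcl _ hm1 _ hm2 h1
  obtain ⟨p, q, hpq, hw'⟩ := hL.surj _ hw
  have hn1 : ¬ Commute (t p q) (t i j) := by
    rw [hw']; exact not_commute_third hfd (hED hm1) h1
  have hn2 : ¬ Commute (t p q) (t j k) := by
    rw [hw', third_comm hfd (hED hm1) (hED hm2) h1]
    exact not_commute_third hfd (hED hm2) (fun h => h1 h.symm)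
  -- members commuting with both commute with the third point
  have hcomm : ∀ a b, a ≠ b → a ≠ i → a ≠ j → a ≠ k → b ≠ i → b ≠ j → b ≠ k →
      Commute (t a b) (t p q) := by
    intro a b hab h1 h2 h3 h4 h5 h6
    rw [hw']
    exact commute_cj_of (hL.com a b i j hab hij h1 h2 h4 h5) (hL.com a b j k hab hjk h2 h3 h5 h6)
  -- `j` is not in the label
  have hjn : ∀ p q, p ≠ q → (∀ a b, a ≠ b → a ≠ i → a ≠ j → a ≠ k → b ≠ i → b ≠ j → b ≠ k →
      Commute (t a b) (t p q)) → ¬ Commute (t p q) (t i j) → ¬ Commute (t p q) (t j k) →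
      p ≠ j := by
    rintro p q hpq hc h1 h2 rfl
    have hqi : q ≠ i := by rintro rfl; exact h1 (by rw [hL.symm])
    have hqk : q ≠ k := by rintro rfl; exact h2 (Commute.refl _)
    obtain ⟨m, hm1, hm2, hm3, hm4⟩ := exists_fifth h5 i p k q
    have := hc q m hm4.symm hqi hpq.symm hqk hm1 hm2 hm3
    rw [hL.symm p q] at this
    exact hL.nc q m p hm4.symm hpq.symm hm2 this
  have hpj := hjn p q hpq hcomm hn1 hn2
  have hqj : q ≠ j := hjn q p hpq.symm
    (fun a b hab h1 h2 h3 h4 h5 h6 => by rw [hL.symm q p]; exact hcomm a b hab h1 h2 h3 h4 h5 h6)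
    (by rw [hL.symm q p]; exact hn1) (by rw [hL.symm q p]; exact hn2)
  rw [← hw']
  have hi : i = p ∨ i = q := by
    by_contra h
    push Not at h
    exact hn1 (hL.com p q i j hpq hij h.1.symm hpj h.2.symm hqj)
  have hk : k = p ∨ k = q := by
    by_contra h
    push Not at h
    exact hn2 (hL.com p q j k hpq hjk hpj h.1.symm hqj h.2.symm)
  rcases hi with rfl | rfl <;> rcases hk with rfl | rfl
  · exact absurd rfl hik
  · rfl
  · exact hL.symm _ _
  · exact absurd rfl hik

/-- conjugation in terms of labels -/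
theorem conj_label [Fintype α] [DecidableEq α] (hfd : FData D) (hL : Labels E t)
    (h5 : 5 ≤ Fintype.card α)
    (hED : E ⊆ D) (hcl : ∀ y ∈ E, ∀ z ∈ E, ¬ Commute y z → cj y z ∈ E) {i j k l : α}
    (hij : i ≠ j) (hkl : k ≠ l) :
    cj (t i j) (t k l) = t (Equiv.swap i j k) (Equiv.swap i j l) := by
  by_cases h1 : k = i
  · subst h1
    by_cases h2 : l = j
    · subst h2
      rw [Equiv.swap_apply_left, Equiv.swap_apply_right, cj_self, hL.symm]
    · rw [Equiv.swap_apply_left, Equiv.swap_apply_of_ne_of_ne hkl.symm h2, hL.symm k j]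
      exact hL.third hfd h5 hED hcl hij.symm hkl (Ne.symm h2)
  by_cases h2 : k = j
  · subst h2
    by_cases h3 : l = i
    · subst h3
      rw [Equiv.swap_apply_left, Equiv.swap_apply_right, hL.symm k l, cj_self]
    · rw [Equiv.swap_apply_right, Equiv.swap_apply_of_ne_of_ne h3 hkl.symm]
      exact hL.third hfd h5 hED hcl hij hkl (Ne.symm h3)
  rw [Equiv.swap_apply_of_ne_of_ne h1 h2]
  by_cases h3 : l = i
  · subst h3
    rw [Equiv.swap_apply_left, hL.symm l j, hL.symm k l, hL.third hfd h5 hED hcl hij.symm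
      hkl.symm (Ne.symm h2), hL.symm]
  by_cases h4 : l = j
  · subst h4
    rw [Equiv.swap_apply_right, hL.symm k l, hL.third hfd h5 hED hcl hij hkl.symm (Ne.symm h1),
      hL.symm]
  rw [Equiv.swap_apply_of_ne_of_ne h3 h4]
  exact cj_of_commute (hL.com i j k l hij hkl (Ne.symm h1) (Ne.symm h3) (Ne.symm h2) (Ne.symm h4))

/-- transport of the labels -/
theorem equiv {β : Type*} (e : β ≃ α) (hL : Labels E t) :
    Labels E (fun i j => t (e i) (e j)) where
  mem i j hij := hL.mem _ _ (e.injective.ne hij)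
  symm i j := hL.symm _ _
  surj y hy := by
    obtain ⟨i, j, hij, rfl⟩ := hL.surj y hy
    exact ⟨e.symm i, e.symm j, e.symm.injective.ne hij, by simp⟩
  com i j k l h1 h2 h3 h4 h5 h6 := hL.com _ _ _ _ (e.injective.ne h1) (e.injective.ne h2)
    (e.injective.ne h3) (e.injective.ne h4) (e.injective.ne h5) (e.injective.ne h6)
  nc i j k h1 h2 h3 := hL.nc _ _ _ (e.injective.ne h1) (e.injective.ne h2) (e.injective.ne h3)

end Labels

/-- Labels from `IsSym` -/
theorem labels_of_isSym {n : ℕ} (h : IsSym n E) : ∃ t : Fin n → Fin n → G, Labels E t := by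
  classical
  obtain ⟨f, hcard, hcomm, hinj, hsurj⟩ := h
  choose! g hg using hsurj
  have hg1 : ∀ i j : Fin n, i ≠ j → g {i, j} ∈ E := fun i j hij =>
    (hg _ (Finset.card_pair hij)).1
  have hg2 : ∀ i j : Fin n, i ≠ j → f (g {i, j}) = {i, j} := fun i j hij =>
    (hg _ (Finset.card_pair hij)).2
  refine ⟨fun i j => g {i, j}, hg1, ?_, ?_, ?_, ?_⟩
  · intro i j
    show g {i, j} = g {j, i}
    rw [Finset.pair_comm]
  · intro y hy
    obtain ⟨i, j, hij, hs⟩ := Finset.card_eq_two.1 (hcard y hy)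
    refine ⟨i, j, hij, ?_⟩
    show g {i, j} = y
    apply hinj _ (hg1 i j hij) _ hy
    rw [hg2 i j hij, hs]
  · intro i j k l hij hkl h1 h2 h3 h4
    show Commute (g {i, j}) (g {k, l})
    rw [hcomm _ (hg1 i j hij) _ (hg1 k l hkl), hg2 i j hij, hg2 k l hkl]
    right
    rw [Finset.disjoint_left]
    intro a ha hb
    simp only [Finset.mem_insert, Finset.mem_singleton] at ha hb
    rcases ha with rfl | rfl <;> rcases hb with rfl | rfl <;> contradiction
  · intro i j k hij hik hjk
    show ¬ Commute (g {i, j}) (g {i, k})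
    rw [hcomm _ (hg1 i j hij) _ (hg1 i k hik), hg2 i j hij, hg2 i k hik]
    rintro (h | h)
    · have : j ∈ ({i, k} : Finset (Fin n)) := by rw [← h]; simp
      simp only [Finset.mem_insert, Finset.mem_singleton] at this
      rcases this with h1 | h1
      · exact hij h1.symm
      · exact hjk h1
    · rw [Finset.disjoint_left] at h
      exact h (a := i) (by simp) (by simp)

/-- `IsSym` from labels -/
theorem isSym_of_labels [Fintype α] {n : ℕ} (h : Labels E t) (hn : Fintype.card α = n)
    (h5 : 5 ≤ n) : IsSym n E := by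
  classical
  obtain ⟨e⟩ : Nonempty (Fin n ≃ α) := ⟨(Fintype.equivFinOfCardEq hn).symm⟩
  have hL := h.equiv e
  set s : Fin n → Fin n → G := fun i j => t (e i) (e j) with hs
  have hinj : ∀ {i j k l : Fin n}, i ≠ j → k ≠ l → s i j = s k l →
      ({i, j} : Finset (Fin n)) = {k, l} := by
    intro i j k l hij hkl h
    rcases hL.inj (by simpa using h5) hij hkl h with ⟨rfl, rfl⟩ | ⟨rfl, rfl⟩
    · rfl
    · exact Finset.pair_comm _ _
  have hsurj := hL.surj
  haveI : Nonempty (Fin n) := ⟨⟨0, by omega⟩⟩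
  choose! p q hpq using hsurj
  refine ⟨fun y => {p y, q y}, ?_, ?_, ?_, ?_⟩
  · intro x hx
    exact Finset.card_pair (hpq x hx).1
  · intro x hx y hy
    obtain ⟨h1, h2⟩ := hpq x hx
    obtain ⟨h3, h4⟩ := hpq y hy
    constructor
    · intro hc
      by_cases hxy : x = y
      · left; rw [hxy]
      right
      have h6 : s (p x) (q x) ≠ s (p y) (q y) := by
        intro h7; exact hxy (by rw [← h2, ← h4]; exact h7)
      have h7 : Commute (s (p x) (q x)) (s (p y) (q y)) := by
        rw [h2, h4]; exact hc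
      obtain ⟨a1, a2, a3, a4⟩ := hL.disj h1 h3 h6 h7
      rw [Finset.disjoint_left]
      intro a ha hb
      simp only [Finset.mem_insert, Finset.mem_singleton] at ha hb
      rcases ha with rfl | rfl <;> rcases hb with h8 | h8 <;> contradiction
    · intro hd
      by_contra hc
      have hc' : ¬ Commute (s (p x) (q x)) (s (p y) (q y)) := by
        rw [h2, h4]; exact hc
      rcases hd with hd | hd
      · apply hc
        have hd : ({p x, q x} : Finset (Fin n)) = {p y, q y} := hd
        have : x = y := by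
          have h6 : p x ∈ ({p y, q y} : Finset (Fin n)) := by rw [← hd]; simp
          have h7 : q x ∈ ({p y, q y} : Finset (Fin n)) := by rw [← hd]; simp
          simp only [Finset.mem_insert, Finset.mem_singleton] at h6 h7
          rw [← h2, ← h4]
          rcases h6 with h6 | h6 <;> rcases h7 with h7 | h7
          · exact absurd (h6.trans h7.symm) h1
          · show s (p x) (q x) = s (p y) (q y)
            rw [h6, h7]
          · show s (p x) (q x) = s (p y) (q y)
            rw [h6, h7, hL.symm]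
          · exact absurd (h6.trans h7.symm) h1
        rw [this]
      · apply hc'
        rw [Finset.disjoint_left] at hd
        refine hL.com _ _ _ _ h1 h3 ?_ ?_ ?_ ?_
        · intro h; exact hd (a := p x) (by simp) (by simp [h])
        · intro h; exact hd (a := p x) (by simp) (by simp [h])
        · intro h; exact hd (a := q x) (by simp) (by simp [h])
        · intro h; exact hd (a := q x) (by simp) (by simp [h])
  · intro x hx y hy hxy
    obtain ⟨h1, h2⟩ := hpq x hx
    obtain ⟨h3, h4⟩ := hpq y hy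
    have hd : ({p x, q x} : Finset (Fin n)) = {p y, q y} := hxy
    have h6 : p x ∈ ({p y, q y} : Finset (Fin n)) := by rw [← hd]; simp
    have h7 : q x ∈ ({p y, q y} : Finset (Fin n)) := by rw [← hd]; simp
    simp only [Finset.mem_insert, Finset.mem_singleton] at h6 h7
    rw [← h2, ← h4]
    rcases h6 with h6 | h6 <;> rcases h7 with h7 | h7
    · exact absurd (h6.trans h7.symm) h1
    · show s (p x) (q x) = s (p y) (q y)
      rw [h6, h7]
    · show s (p x) (q x) = s (p y) (q y)
      rw [h6, h7, hL.symm]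
    · exact absurd (h6.trans h7.symm) h1
  · intro a ha
    obtain ⟨i, j, hij, rfl⟩ := Finset.card_eq_two.1 ha
    refine ⟨s i j, hL.mem i j hij, ?_⟩
    obtain ⟨h1, h2⟩ := hpq (s i j) (hL.mem i j hij)
    exact hinj h1 hij h2

end Cfsg.Agent.Fischer886.Lab
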