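import Mathlib
import Cfsg.Agent.Fischer886.Lab

set_option autoImplicit false

/-!
# S0480, case (A): 3-transposition groups which are locally symmetric
-/

namespace Cfsg.Agent.Fischer886.SymUp

open Cfsg Cfsg.Agent.SporadicStructure.FischerSpace Cfsg.Agent.ThreeTransPolar.Basic
open Cfsg.Agent.Fischer480.Defs Cfsg.Agent.Fischer886.Lab

universe u v

variable {G : Type u} [Group G] {D : Set G} {α : Type v}

theorem loc_sub {x : G} : Loc D x ⊆ D := fun _ h => h.1

theorem loc_cj (hfd : FData D) {x y z : G} (hy : y ∈ Loc D x) (hz : z ∈ Loc D x) :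
    cj y z ∈ Loc D x := by
  refine ⟨cj_mem hfd hz.1, ?_, commute_cj_of hy.2.2 hz.2.2⟩
  intro h
  have h1 : cj y (cj y z) = cj y x := by rw [h]
  rw [cj_cj_self hfd hy.1, cj_of_commute hy.2.2.symm] at h1
  exact hz.2.1 h1

section Local

variable [Fintype α]

theorem third_loc (hfd : FData D) (h5 : 5 ≤ Fintype.card α) {x : G} {t : α → α → G}
    (hL : Labels (Loc D x) t) {i j k : α} (hij : i ≠ j) (hjk : j ≠ k) (hik : i ≠ k) :
    cj (t i j) (t j k) = t i k :=
  hL.third hfd h5 loc_sub (fun _ hy _ hz _ => loc_cj hfd hy hz) hij hjk hik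

theorem conj_loc [DecidableEq α] (hfd : FData D) (h5 : 5 ≤ Fintype.card α) {x : G}
    {t : α → α → G}
    (hL : Labels (Loc D x) t) {i j k l : α} (hij : i ≠ j) (hkl : k ≠ l) :
    cj (t i j) (t k l) = t (Equiv.swap i j k) (Equiv.swap i j l) :=
  hL.conj_label hfd h5 loc_sub (fun _ hy _ hz _ => loc_cj hfd hy hz) hij hkl

/-- membership in `Loc D y` from non commutation -/
theorem mem_loc_of {x a y : G} (hx : x ∈ D) (hy : Commute y x) (hya : Commute y a)
    (hxa : ¬ Commute x a) : x ∈ Loc D y := by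
  refine ⟨hx, ?_, hy⟩
  rintro rfl
  exact hxa hya

/-- `a` and `x` non commuting and `b` and `x` non commuting -/
theorem theta (hfd : FData D) (h5 : 5 ≤ Fintype.card α) {x a b y : G}
    (hlab : ∃ s : α → α → G, Labels (Loc D y) s) (hx : x ∈ D) (ha : a ∈ D) (hb : b ∈ D)
    (hxa : ¬ Commute x a) (hxb : ¬ Commute x b)
    (hyx : Commute y x) (hya : Commute y a) (hyb : Commute y b)
    (h : ∀ u ∈ D, u ≠ y → Commute u y → Commute u x → Commute u a → Commute u b) :
    b = a ∨ b = cj x a := by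
  obtain ⟨s, hs⟩ := hlab
  have mx := mem_loc_of hx hyx hya hxa
  have ma := mem_loc_of ha hya hyx (fun h => hxa h.symm)
  have mb := mem_loc_of hb hyb hyx (fun h => hxb h.symm)
  obtain ⟨p, q, r, hpq, hqr, hpr, rfl, rfl⟩ := hs.share mx ma hxa
  obtain ⟨p', q', r', hpq', hqr', hpr', hx', rfl⟩ := hs.share mx mb hxb
  have key : r' = r := by
    by_contra hne
    have hn : r' ≠ p ∧ r' ≠ q ∧ (q' = p ∨ q' = q) := by
      rcases hs.inj h5 hpq' hpq hx' with ⟨rfl, rfl⟩ | ⟨rfl, rfl⟩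
      · exact ⟨hpr'.symm, hqr'.symm, Or.inr rfl⟩
      · exact ⟨hqr'.symm, hpr'.symm, Or.inl rfl⟩
    obtain ⟨m, hm1, hm2, hm3, hm4⟩ := exists_fifth h5 p q r r'
    have hmem := hs.mem r' m hm4.symm
    have h1 := h _ hmem.1 hmem.2.1 hmem.2.2.symm
      (hs.com r' m p q hm4.symm hpq hn.1 hn.2.1 hm1 hm2)
      (hs.com r' m q r hm4.symm hqr hn.2.1 hne hm2 hm3)
    have hmq : m ≠ q' := by
      rcases hn.2.2 with h2 | h2 <;> rw [h2] <;> assumption
    rw [hs.symm q' r'] at h1
    exact hs.nc r' m q' hm4.symm hqr'.symm hmq h1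
  subst key
  rcases hs.inj h5 hpq' hpq hx' with ⟨rfl, rfl⟩ | ⟨rfl, rfl⟩
  · exact Or.inl rfl
  · right
    rw [third_loc hfd h5 hs hpq hqr hpr]

/-- the relation on the points given by `a` -/
def Eqv (t : α → α → G) (a : G) (i j : α) : Prop := i = j ∨ Commute (t i j) a

omit [Fintype α] in
theorem Eqv.refl {t : α → α → G} {a : G} (i : α) : Eqv t a i i := Or.inl rfl

omit [Fintype α] in
theorem Eqv.symm {x : G} {t : α → α → G} (hL : Labels (Loc D x) t) {a : G} {i j : α}
    (h : Eqv t a i j) : Eqv t a j i := by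
  rcases h with h | h
  · exact Or.inl h.symm
  · right; rw [hL.symm]; exact h

theorem Eqv.trans (hfd : FData D) (h5 : 5 ≤ Fintype.card α) {x : G} {t : α → α → G}
    (hL : Labels (Loc D x) t) {a : G} {i j k : α}
    (h : Eqv t a i j) (h' : Eqv t a j k) : Eqv t a i k := by
  by_cases hij : i = j
  · subst hij; exact h'
  by_cases hjk : j = k
  · subst hjk; exact h
  by_cases hik : i = k
  · exact Or.inl hik
  right
  rw [← third_loc hfd h5 hL hij hjk hik]
  exact (commute_cj_of (h.resolve_left hij).symm (h'.resolve_left hjk).symm).symm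

/-- around a point of `X_a` the relation `Eqv` is a star -/
theorem star (hfd : FData D) (h5 : 5 ≤ Fintype.card α)
    (hlab : ∀ x ∈ D, ∃ s : α → α → G, Labels (Loc D x) s) {x a : G} (hx : x ∈ D) (ha : a ∈ D)
    (hxa : ¬ Commute x a) {t : α → α → G} (hL : Labels (Loc D x) t) {i j : α} (hij : i ≠ j)
    (hc : Commute (t i j) a) :
    ∃ r, r ≠ i ∧ r ≠ j ∧ ∀ k, k ≠ i → k ≠ j → k ≠ r → ¬ Eqv t a r k ∧
      ∀ l, l ≠ i → l ≠ j → l ≠ r → Eqv t a k l := by
  have hy := hL.mem i j hij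
  obtain ⟨s, hs⟩ := hlab _ hy.1
  have mx : x ∈ Loc D (t i j) := mem_loc_of hx hy.2.2.symm hc hxa
  have ma : a ∈ Loc D (t i j) := mem_loc_of ha hc hy.2.2.symm (fun h => hxa h.symm)
  obtain ⟨p, q, r', hpq, hqr, hpr, hpx, hqa⟩ := hs.share mx ma hxa
  -- the members of `D_x ∩ D_y` not commuting with `a`
  have hform : ∀ k l, k ≠ l → k ≠ i → k ≠ j → l ≠ i → l ≠ j → ¬ Commute (t k l) a →
      ∃ b, r' ≠ b ∧ t k l = s r' b := by
    intro k l hkl hki hkj hli hlj hnc
    have hm := hL.mem k l hkl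
    have hcy : Commute (t i j) (t k l) := hL.com i j k l hij hkl hki.symm hli.symm hkj.symm hlj.symm
    have hm' : t k l ∈ Loc D (t i j) := by
      refine ⟨hm.1, ?_, hcy⟩
      intro h
      rw [h] at hnc
      exact hnc hc
    obtain ⟨b, c, hbc, hbc'⟩ := hs.surj _ hm'
    have hnx : s b c ≠ s p q := by
      rw [hbc', hpx]; exact hm.2.1
    have hcx : Commute (s b c) (s p q) := by
      rw [hbc', hpx]; exact hm.2.2.symm
    obtain ⟨h1, h2, h3, h4⟩ := hs.disj hbc hpq hnx hcx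
    by_cases hb : b = r'
    · subst hb
      exact ⟨c, hbc, hbc'.symm⟩
    by_cases hc' : c = r'
    · subst hc'
      exact ⟨b, hbc.symm, by rw [hs.symm]; exact hbc'.symm⟩
    exfalso
    apply hnc
    rw [← hbc', ← hqa]
    exact hs.com b c q r' hbc hqr h2 hb h4 hc'
  -- translation back
  have hback : ∀ b c, b ≠ c → b ≠ p → b ≠ q → c ≠ p → c ≠ q →
      ∃ k l, k ≠ l ∧ k ≠ i ∧ k ≠ j ∧ l ≠ i ∧ l ≠ j ∧ t k l = s b c := by
    intro b c hbc h1 h2 h3 h4
    have hm := hs.mem b c hbc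
    have hcx : Commute x (s b c) := by
      rw [← hpx]; exact hs.com p q b c hpq hbc h1.symm h3.symm h2.symm h4.symm
    have hnx : s b c ≠ x := by
      rw [← hpx]
      intro h
      rcases hs.inj h5 hbc hpq h with ⟨h6, h7⟩ | ⟨h6, h7⟩
      · exact h1 h6
      · exact h2 h6
    obtain ⟨k, l, hkl, hkl'⟩ := hL.surj (s b c) ⟨hm.1, hnx, hcx⟩
    obtain ⟨h6, h7, h8, h9⟩ := hL.disj hkl hij (by rw [hkl']; exact hm.2.1)
      (by rw [hkl']; exact hm.2.2.symm)
    exact ⟨k, l, hkl, h6, h7, h8, h9, hkl'⟩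
  -- two inequivalent pairs intersect
  have hint : ∀ k l k' l', k ≠ l → k' ≠ l' → k ≠ i → k ≠ j → l ≠ i → l ≠ j →
      k' ≠ i → k' ≠ j → l' ≠ i → l' ≠ j → ¬ Commute (t k l) a → ¬ Commute (t k' l') a →
      k ≠ k' → k ≠ l' → l ≠ k' → l ≠ l' → False := by
    intro k l k' l' hkl hkl' a1 a2 a3 a4 b1 b2 b3 b4 hn hn' c1 c2 c3 c4
    obtain ⟨b, hb, hb'⟩ := hform k l hkl a1 a2 a3 a4 hn
    obtain ⟨b', hb1, hb1'⟩ := hform k' l' hkl' b1 b2 b3 b4 hn'
    have hcom := hL.com k l k' l' hkl hkl' c1 c2 c3 c4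
    by_cases hbb : b = b'
    · rw [← hbb, ← hb'] at hb1'
      rcases hL.inj h5 hkl' hkl hb1' with ⟨h1, h2⟩ | ⟨h1, h2⟩
      · exact c1 h1.symm
      · exact c3 h1.symm
    · rw [hb', hb1'] at hcom
      exact hs.nc r' b b' hb hb1 hbb hcom
  -- an equivalent and an inequivalent pair
  obtain ⟨b, hb1, hb2, hb3, -⟩ := exists_fifth h5 p q r' r'
  obtain ⟨c, hc1, hc2, hc3, hc4⟩ := exists_fifth h5 p q r' b
  obtain ⟨r0, m0, hrm, hr1, hr2, hm1, hm2, hrm'⟩ := hback r' b hb3.symm hpr.symm hqr.symm hb1 hb2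
  obtain ⟨k0, l0, hkl, hk1, hk2, hl1, hl2, hkl'⟩ := hback b c hc4.symm hb1 hb2 hc1 hc2
  have hne0 : ¬ Eqv t a r0 m0 := by
    rintro (h | h)
    · exact hrm h
    · rw [hrm', ← hqa, hs.symm q r'] at h
      exact hs.nc r' b q hb3.symm hqr.symm hb2 h
  have he0 : Eqv t a k0 l0 := by
    right
    rw [hkl', ← hqa]
    exact hs.com b c q r' hc4.symm hqr hb2 hb3 hc2 hc3
  have hr : ∃ r, r ≠ i ∧ r ≠ j ∧ ¬ Eqv t a r k0 := by
    by_cases h1 : Eqv t a r0 k0
    · refine ⟨m0, hm1, hm2, ?_⟩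
      intro h2
      exact hne0 (Eqv.trans hfd h5 hL h1 (Eqv.symm hL h2))
    · exact ⟨r0, hr1, hr2, h1⟩
  obtain ⟨r, hri, hrj, hrk⟩ := hr
  have hrl : ¬ Eqv t a r l0 := fun h => hrk (Eqv.trans hfd h5 hL h (Eqv.symm hL he0))
  have hk0 : ∀ k, k ≠ i → k ≠ j → k ≠ r → Eqv t a k k0 := by
    intro k h1 h2 h3
    by_contra hcon
    have hkk0 : k ≠ k0 := fun h => hcon (Or.inl h)
    have hkl0 : k ≠ l0 := by
      rintro rfl
      exact hcon (Eqv.symm hL he0)
    have hrl0 : r ≠ l0 := fun h => hrl (Or.inl h)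
    have hrk0 : r ≠ k0 := fun h => hrk (Or.inl h)
    exact hint k k0 r l0 hkk0 hrl0 h1 h2 hk1 hk2 hri hrj hl1 hl2 (fun h => hcon (Or.inr h))
      (fun h => hrl (Or.inr h)) h3 hkl0 hrk0.symm hkl
  refine ⟨r, hri, hrj, ?_⟩
  intro k h1 h2 h3
  refine ⟨fun h => hrk (Eqv.trans hfd h5 hL h (hk0 k h1 h2 h3)), ?_⟩
  intro l h4 h6 h7
  exact Eqv.trans hfd h5 hL (hk0 k h1 h2 h3) (Eqv.symm hL (hk0 l h4 h6 h7))

end Local

/-- every pair of members of `D` has a common commuting neighbour -/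
theorem exists_common (hrk : Rk D) {x a : G} (hx : x ∈ D) (ha : a ∈ D) (hxa : ¬ Commute x a) :
    ∃ d ∈ D, Commute d x ∧ Commute d a := by
  obtain ⟨x', hx', w, hw, d, hd, h1, h2, h3⟩ := hrk.exNonPerp
  obtain ⟨g, hg⟩ := hrk.fd.single x' hx' x hx
  have hg' : cj g x' = x := hg
  have h4 : ¬ Commute x (cj g w) := by rw [← hg', commute_cj]; exact h1
  obtain ⟨k, hk1, hk2⟩ := hrk.colTrans x hx (cj g w) (cj_mem hrk.fd hw) a ha h4 hxa
  refine ⟨cj k (cj g d), cj_mem hrk.fd (cj_mem hrk.fd hd), ?_, ?_⟩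
  · rw [← hk1, ← hg', commute_cj, commute_cj]; exact h2
  · rw [← hk2, commute_cj, commute_cj]; exact h3

theorem eq_of_five [Fintype α] [DecidableEq α] (h5 : Fintype.card α = 5) {i j k l r : α}
    (h1 : i ≠ j) (h2 : i ≠ k) (h3 : i ≠ l) (h4 : i ≠ r) (h6 : j ≠ k) (h7 : j ≠ l) (h8 : j ≠ r)
    (h9 : k ≠ l) (h10 : k ≠ r) (h11 : l ≠ r) (m : α) :
    m = i ∨ m = j ∨ m = k ∨ m = l ∨ m = r := by
  have hc : ({i, j, k, l, r} : Finset α).card = 5 := by
    rw [Finset.card_insert_of_notMem, Finset.card_insert_of_notMem, Finset.card_insert_of_notMem,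
      Finset.card_insert_of_notMem, Finset.card_singleton] <;> simp [*]
  have hu : ({i, j, k, l, r} : Finset α) = Finset.univ :=
    (Finset.card_eq_iff_eq_univ _).1 (hc.trans h5.symm)
  have hm : m ∈ ({i, j, k, l, r} : Finset α) := by rw [hu]; exact Finset.mem_univ m
  simpa using hm

theorem exists_sixth [Fintype α] (h6 : 6 ≤ Fintype.card α) (i j k l r : α) :
    ∃ m, m ≠ i ∧ m ≠ j ∧ m ≠ k ∧ m ≠ l ∧ m ≠ r := by
  classical
  by_contra hcon
  push Not at hcon
  have h1 : (Finset.univ : Finset α) ⊆ {i, j, k, l, r} := by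
    intro m _
    simp only [Finset.mem_insert, Finset.mem_singleton]
    by_contra h2
    push Not at h2
    exact h2.2.2.2.2 (hcon m h2.1 h2.2.1 h2.2.2.1 h2.2.2.2.1)
  have h2 := Finset.card_le_card h1
  have h3 : ({i, j, k, l, r} : Finset α).card ≤ 5 := Finset.card_le_five
  rw [Finset.card_univ] at h2
  omega

theorem exists_seventh [Fintype α] (h7 : 7 ≤ Fintype.card α) (i j k l r s : α) :
    ∃ m, m ≠ i ∧ m ≠ j ∧ m ≠ k ∧ m ≠ l ∧ m ≠ r ∧ m ≠ s := by
  classical
  by_contra hcon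
  push Not at hcon
  have h1 : (Finset.univ : Finset α) ⊆ {i, j, k, l, r, s} := by
    intro m _
    simp only [Finset.mem_insert, Finset.mem_singleton]
    by_contra h2
    push Not at h2
    exact h2.2.2.2.2.2 (hcon m h2.1 h2.2.1 h2.2.2.1 h2.2.2.2.1 h2.2.2.2.2.1)
  have h2 := Finset.card_le_card h1
  have h3 : ({i, j, k, l, r, s} : Finset α).card ≤ 6 := Finset.card_le_six
  rw [Finset.card_univ] at h2
  omega

/-- the members of `D_x` commuting with `a` are the pairs avoiding one point -/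
theorem exists_root [Fintype α] (hrk : Rk D) (hn : Fintype.card α = 5 ∨ 7 ≤ Fintype.card α)
    (hlab : ∀ x ∈ D, ∃ s : α → α → G, Labels (Loc D x) s) {x a : G} (hx : x ∈ D) (ha : a ∈ D)
    (hxa : ¬ Commute x a) {t : α → α → G} (hL : Labels (Loc D x) t) :
    ∃ r, ∀ i j, i ≠ j → (Commute (t i j) a ↔ i ≠ r ∧ j ≠ r) := by
  classical
  have hfd := hrk.fd
  have h5 : 5 ≤ Fintype.card α := by omega
  -- it is enough to have one class and one point outside
  have fin : ∀ r m : α, (∀ k, k ≠ r → Eqv t a k m) → ¬ Eqv t a r m →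
      ∃ r, ∀ i j, i ≠ j → (Commute (t i j) a ↔ i ≠ r ∧ j ≠ r) := by
    intro r m h1 h2
    refine ⟨r, ?_⟩
    intro i j hij
    constructor
    · intro hc
      constructor
      · rintro rfl
        exact h2 (Eqv.trans hfd h5 hL (Or.inr hc) (h1 j hij.symm))
      · rintro rfl
        exact h2 (Eqv.trans hfd h5 hL (Eqv.symm hL (Or.inr hc)) (h1 i hij))
    · rintro ⟨hi, hj⟩
      exact (Eqv.trans hfd h5 hL (h1 i hi) (Eqv.symm hL (h1 j hj))).resolve_left hij
  obtain ⟨y, hy, hyx, hya⟩ := exists_common hrk hx ha hxa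
  have hyx' : y ≠ x := by rintro rfl; exact hxa hya
  obtain ⟨i, j, hij, rfl⟩ := hL.surj y ⟨hy, hyx', hyx.symm⟩
  obtain ⟨r, hri, hrj, hr⟩ := star hfd h5 hlab hx ha hxa hL hij hya
  obtain ⟨k, hki, hkj, hkr, -⟩ := exists_fifth h5 i j r r
  obtain ⟨l, hli, hlj, hlr, hlk⟩ := exists_fifth h5 i j r k
  have hkl : Eqv t a k l := (hr k hki hkj hkr).2 l hli hlj hlr
  have hrk1 : ¬ Eqv t a r k := (hr k hki hkj hkr).1
  have hrl1 : ¬ Eqv t a r l := (hr l hli hlj hlr).1
  obtain ⟨r', hrk', hrl', hr'⟩ := star hfd h5 hlab hx ha hxa hL hlk.symm (hkl.resolve_left hlk.symm)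
  have hE : Eqv t a i j := Or.inr hya
  rcases hn with hn | hn
  · -- five points
    have hall := eq_of_five hn hij hki.symm hli.symm hri.symm hkj.symm hlj.symm hrj.symm hlk.symm
      hkr hlr
    by_cases hik : Eqv t a i k
    · apply fin r k _ hrk1
      intro m hm
      rcases hall m with rfl | rfl | rfl | rfl | rfl
      · exact hik
      · exact Eqv.trans hfd h5 hL (Eqv.symm hL hE) hik
      · exact Eqv.refl _
      · exact Eqv.symm hL hkl
      · exact absurd rfl hm
    exfalso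
    have hjl : ¬ Eqv t a j l := fun h =>
      hik (Eqv.trans hfd h5 hL hE (Eqv.trans hfd h5 hL h (Eqv.symm hL hkl)))
    have hc : ¬ Commute a (t i k) := fun h => hik (Or.inr h.symm)
    have hd : ¬ Commute a (t j l) := fun h => hjl (Or.inr h.symm)
    have hcd : Commute (t i k) (t j l) :=
      hL.com i k j l hki.symm hlj.symm hij hli.symm hkj hlk.symm
    have mc := (hL.mem i k hki.symm)
    have md := (hL.mem j l hlj.symm)
    set a' := cj (t i k) (cj (t j l) a) with ha'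
    have ha'D : a' ∈ D := cj_mem hfd (cj_mem hfd ha)
    have h1 : Commute a a' := s4_commute hfd mc.1 md.1 ha hcd hc hd
    have h2 : a' ≠ a := s4_ne hfd mc.1 md.1 ha
      (fun h => by
        rcases hL.inj h5 hki.symm hlj.symm h with ⟨h1, h2⟩ | ⟨h1, h2⟩
        · exact hij h1
        · exact hli h1.symm) hc hd
    have hxa' : ¬ Commute x a' := by
      intro h
      have h3 : Commute (cj (t j l) (cj (t i k) x)) (cj (t j l) (cj (t i k) a')) :=
        commute_cj.2 (commute_cj.2 h)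
      rw [ha', cj_cj_self hfd mc.1, cj_cj_self hfd md.1, cj_of_commute mc.2.2.symm,
        cj_of_commute md.2.2.symm] at h3
      exact hxa h3
    have hmove : ∀ w, Commute w a' ↔ Commute (cj (t j l) (cj (t i k) w)) a := by
      intro w
      rw [← commute_cj (g := t i k), ← commute_cj (g := t j l), ha', cj_cj_self hfd mc.1,
        cj_cj_self hfd md.1]
    have hm1 : cj (t j l) (cj (t i k) (t i j)) = t k l := by
      rw [conj_loc hfd h5 hL hki.symm hij, conj_loc hfd h5 hL hlj.symm,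
        Equiv.swap_apply_left, Equiv.swap_apply_of_ne_of_ne hij.symm hkj.symm,
        Equiv.swap_apply_left, Equiv.swap_apply_of_ne_of_ne hkj hlk.symm]
      rw [Equiv.swap_apply_left, Equiv.swap_apply_of_ne_of_ne hij.symm hkj.symm]
      exact hkj
    have hm2 : cj (t j l) (cj (t i k) (t k l)) = t i j := by
      rw [conj_loc hfd h5 hL hki.symm hlk.symm, conj_loc hfd h5 hL hlj.symm,
        Equiv.swap_apply_right, Equiv.swap_apply_of_ne_of_ne hli hlk,
        Equiv.swap_apply_of_ne_of_ne hij hli.symm, Equiv.swap_apply_right]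
      rw [Equiv.swap_apply_right, Equiv.swap_apply_of_ne_of_ne hli hlk]
      exact hli.symm
    have hya' : Commute (t i j) a' := by
      rw [hmove, hm1]; exact hkl.resolve_left hlk.symm
    have hth := theta hfd h5 (hlab _ hy) hx ha ha'D hxa hxa' hyx hya hya' ?_
    · rcases hth with h3 | h3
      · exact h2 h3
      · rw [h3, third_comm hfd hx ha hxa] at h1
        exact not_commute_third hfd ha (fun h => hxa h.symm) h1.symm
    · intro u hu hne hcy hcx hca
      have hux : u ≠ x := by rintro rfl; exact hxa hca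
      obtain ⟨m, n, hmn, rfl⟩ := hL.surj u ⟨hu, hux, hcx.symm⟩
      obtain ⟨b1, b2, b3, b4⟩ := hL.disj hmn hij hne hcy
      have hmn' : Eqv t a m n := Or.inr hca
      have hmr : m ≠ r := by
        rintro rfl
        exact (hr n b3 b4 hmn.symm).1 hmn'
      have hnr : n ≠ r := by
        rintro rfl
        exact (hr m b1 b2 hmn).1 (Eqv.symm hL hmn')
      have hres : t m n = t k l := by
        rcases hall m with h | h | h | h | h <;> rcases hall n with h' | h' | h' | h' | h'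
        all_goals first
          | exact absurd h b1
          | exact absurd h b2
          | exact absurd h hmr
          | exact absurd h' b3
          | exact absurd h' b4
          | exact absurd h' hnr
          | exact absurd (h.trans h'.symm) hmn
          | exact (congrArg₂ t h h')
          | exact (congrArg₂ t h h').trans (hL.symm _ _)
      rw [hres, hmove, hm2]
      exact hya
  · -- at least seven points
    obtain ⟨s1, b1, b2, b3, b4, b5⟩ := exists_sixth (by omega) i j r k l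
    obtain ⟨s2, c1, c2, c3, c4, c5, c6⟩ := exists_seventh hn i j r k l s1
    have hrs1 : ¬ Eqv t a r s1 := (hr s1 b1 b2 b3).1
    have hrs2 : ¬ Eqv t a r s2 := (hr s2 c1 c2 c3).1
    have hrr : r = r' := by
      by_contra hne
      by_cases h1 : s1 = r'
      · have h2 : s2 ≠ r' := by rw [← h1]; exact c6
        exact hrs2 ((hr' r hkr.symm hlr.symm hne).2 s2 c4 c5 h2)
      · exact hrs1 ((hr' r hkr.symm hlr.symm hne).2 s1 b4 b5 h1)
    subst hrr
    apply fin r s1 _ hrs1
    intro m hm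
    by_cases hmi : m = i
    · subst hmi
      exact (hr' m hki.symm hli.symm hm).2 s1 b4 b5 b3
    by_cases hmj : m = j
    · subst hmj
      exact (hr' m hkj.symm hlj.symm hm).2 s1 b4 b5 b3
    exact (hr m hmi hmj hm).2 s1 b1 b2 b3

/-- `t i j` commutes with `a` iff the label avoids `r` -/
def Root (t : α → α → G) (a : G) (r : α) : Prop :=
  ∀ i j, i ≠ j → (Commute (t i j) a ↔ i ≠ r ∧ j ≠ r)

section Up

variable [Fintype α]

theorem root_cj [DecidableEq α] (hfd : FData D) (h5 : 5 ≤ Fintype.card α) {x : G} {t : α → α → G}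
    (hL : Labels (Loc D x) t) {a : G} {r j : α} (hr : Root t a r) (hj : j ≠ r) :
    Root t (cj (t r j) a) j := by
  intro i k hik
  rw [← commute_cj (g := t r j), cj_cj_self hfd (hL.mem r j hj.symm).1,
    conj_loc hfd h5 hL hj.symm hik, hr _ _ ((Equiv.swap r j).injective.ne hik), ne_eq, ne_eq,
    Equiv.swap_apply_eq_iff, Equiv.swap_apply_eq_iff, Equiv.swap_apply_left]

theorem root_unique (hfd : FData D) (h5 : 5 ≤ Fintype.card α)
    (hlab : ∀ x ∈ D, ∃ s : α → α → G, Labels (Loc D x) s) {x : G} {t : α → α → G}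
    (hL : Labels (Loc D x) t) (hx : x ∈ D) {a b : G} (ha : a ∈ D) (hb : b ∈ D)
    (hxa : ¬ Commute x a) (hxb : ¬ Commute x b) {r : α} (hra : Root t a r) (hrb : Root t b r) :
    b = a ∨ b = cj x a := by
  obtain ⟨p, hp, -, -, -⟩ := exists_fifth h5 r r r r
  obtain ⟨q, hq, hqp, -, -⟩ := exists_fifth h5 r p r r
  have hm := hL.mem p q hqp.symm
  refine theta hfd h5 (hlab _ hm.1) hx ha hb hxa hxb hm.2.2.symm
    ((hra p q hqp.symm).2 ⟨hp, hq⟩) ((hrb p q hqp.symm).2 ⟨hp, hq⟩) ?_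
  intro u hu hne huy hux hua
  have hux' : u ≠ x := by rintro rfl; exact hxa hua
  obtain ⟨m, n, hmn, rfl⟩ := hL.surj u ⟨hu, hux', hux.symm⟩
  exact (hrb m n hmn).2 ((hra m n hmn).1 hua)

omit [Fintype α] in
theorem cj_cj' (g h a : G) : cj g (cj h a) = cj (cj g h) (cj g a) := by
  rw [cj_cj, cj_inv_cj]

/-- the labels of the new set -/
def ext (t : α → α → G) (x : G) (A : α → G) : α ⊕ Bool → α ⊕ Bool → G
  | .inl i, .inl j => t i j
  | .inl i, .inr false => A i
  | .inl i, .inr true => cj x (A i)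
  | .inr false, .inl i => A i
  | .inr true, .inl i => cj x (A i)
  | .inr _, .inr _ => x

omit [Fintype α] in
theorem ext_labels (hfd : FData D) {x : G} (hx : x ∈ D) {t : α → α → G}
    (hL : Labels (Loc D x) t) {A : α → G} (mA : ∀ i, A i ∈ D) (xA : ∀ i, ¬ Commute x (A i))
    (tA : ∀ k, Root t (A k) k) (mv : ∀ j k, j ≠ k → cj (t j k) (A j) = A k)
    (all : ∀ b ∈ D, ¬ Commute x b → ∃ j, b = A j ∨ b = cj x (A j)) :
    Labels D (ext t x A) := by
  have mt : ∀ i j, i ≠ j → t i j ∈ D := fun i j hij => (hL.mem i j hij).1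
  have xt : ∀ i j, i ≠ j → Commute x (t i j) := fun i j hij => (hL.mem i j hij).2.2
  have mB : ∀ i, cj x (A i) ∈ D := fun i => cj_mem hfd (mA i)
  have xB : ∀ i, ¬ Commute x (cj x (A i)) := fun i h =>
    not_commute_third hfd hx (xA i) h.symm
  have ntA : ∀ i j, i ≠ j → ¬ Commute (t i j) (A i) := fun i j hij h =>
    ((tA i i j hij).1 h).1 rfl
  have ntA' : ∀ i j, i ≠ j → ¬ Commute (t i j) (A j) := fun i j hij h =>
    ((tA j i j hij).1 h).2 rfl
  have tB : ∀ i j k, i ≠ j → (Commute (t i j) (cj x (A k)) ↔ Commute (t i j) (A k)) := by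
    intro i j k hij
    rw [← commute_cj_left' hfd hx, cj_of_commute (xt i j hij)]
  have ntB : ∀ i j, i ≠ j → ¬ Commute (t i j) (cj x (A i)) := fun i j hij h =>
    ntA i j hij ((tB i j i hij).1 h)
  have AA : ∀ j k, j ≠ k → ¬ Commute (A j) (A k) := by
    intro j k hjk h
    rw [← mv j k hjk, third_comm hfd (mt j k hjk) (mA j) (ntA j k hjk)] at h
    exact not_commute_third hfd (mA j) (fun h => ntA j k hjk h.symm) h.symm
  have BB : ∀ j k, j ≠ k → ¬ Commute (cj x (A j)) (cj x (A k)) := fun j k hjk h =>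
    AA j k hjk (commute_cj.1 h)
  have AB : ∀ j k, j ≠ k → Commute (A j) (cj x (A k)) := by
    intro j k hjk
    rw [← mv j k hjk]
    exact s4_commute hfd hx (mt j k hjk) (mA j) (xt j k hjk) (fun h => xA j h.symm)
      (fun h => ntA j k hjk h.symm)
  have ABj : ∀ j, ¬ Commute (A j) (cj x (A j)) := by
    intro j h
    rw [third_comm hfd hx (mA j) (xA j)] at h
    exact not_commute_third hfd (mA j) (fun h => xA j h.symm) h.symm
  constructor
  · rintro (i | (_ | _)) (j | (_ | _)) hij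
    · exact mt i j (fun h => hij (by rw [h]))
    · exact mA i
    · exact mB i
    · exact mA j
    · exact hx
    · exact hx
    · exact mB j
    · exact hx
    · exact hx
  · rintro (i | (_ | _)) (j | (_ | _))
    · exact hL.symm i j
    all_goals rfl
  · intro y hy
    by_cases h1 : y = x
    · exact ⟨.inr false, .inr true, by simp, h1.symm⟩
    by_cases h2 : Commute x y
    · obtain ⟨i, j, hij, rfl⟩ := hL.surj y ⟨hy, h1, h2⟩
      exact ⟨.inl i, .inl j, by simpa using hij, rfl⟩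
    obtain ⟨j, h | h⟩ := all y hy h2
    · exact ⟨.inl j, .inr false, by simp, h.symm⟩
    · exact ⟨.inl j, .inr true, by simp, h.symm⟩
  · have ht : ∀ i j k l : α, i ≠ j → k ≠ l → i ≠ k → i ≠ l → j ≠ k → j ≠ l →
      Commute (t i j) (t k l) := hL.com
    have h1 : ∀ i j k : α, i ≠ j → i ≠ k → j ≠ k → Commute (t i j) (A k) := fun i j k h h' h'' =>
      (tA k i j h).2 ⟨h', h''⟩
    have h2 : ∀ i j k : α, i ≠ j → i ≠ k → j ≠ k → Commute (t i j) (cj x (A k)) :=
      fun i j k h h' h'' => (tB i j k h).2 (h1 i j k h h' h'')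
    rintro (i | (_ | _)) (j | (_ | _)) (k | (_ | _)) (l | (_ | _)) a1 a2 a3 a4 a5 a6 <;>
    simp only [ne_eq, Sum.inl.injEq, Sum.inr.injEq, reduceCtorEq, not_true_eq_false,
      not_false_eq_true] at a1 a2 a3 a4 a5 a6 <;> simp only [ext]
    all_goals first
      | exact ht _ _ _ _ a1 a2 a3 a4 a5 a6
      | exact h1 _ _ _ ‹_› ‹_› ‹_›
      | exact h2 _ _ _ ‹_› ‹_› ‹_›
      | exact (h1 _ _ _ ‹_› (Ne.symm ‹_›) (Ne.symm ‹_›)).symm
      | exact (h2 _ _ _ ‹_› (Ne.symm ‹_›) (Ne.symm ‹_›)).symm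
      | exact AB _ _ ‹_›
      | exact (AB _ _ (Ne.symm ‹_›)).symm
      | exact xt _ _ ‹_›
      | exact (xt _ _ ‹_›).symm
  · rintro (i | (_ | _)) (j | (_ | _)) (k | (_ | _)) a1 a2 a3 <;>
    simp only [ne_eq, Sum.inl.injEq, Sum.inr.injEq, reduceCtorEq, not_true_eq_false,
      not_false_eq_true] at a1 a2 a3 <;> simp only [ext]
    all_goals first
      | exact hL.nc _ _ _ a1 a2 a3
      | exact ntA _ _ ‹_›
      | exact ntB _ _ ‹_›
      | exact fun h => ntA _ _ ‹_› h.symm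
      | exact fun h => ntB _ _ ‹_› h.symm
      | exact ABj _
      | exact fun h => ABj _ h.symm
      | exact AA _ _ ‹_›
      | exact BB _ _ ‹_›
      | exact xA _
      | exact xB _
      | exact fun h => xA _ h.symm
      | exact fun h => xB _ h.symm

/-- the whole set is labelled by the pairs of a set with two more points -/
theorem exists_labels (hrk : Rk D) (hn : Fintype.card α = 5 ∨ 7 ≤ Fintype.card α)
    (hlab : ∀ x ∈ D, ∃ s : α → α → G, Labels (Loc D x) s) :
    ∃ T : α ⊕ Bool → α ⊕ Bool → G, Labels D T := by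
  classical
  have hfd := hrk.fd
  have h5 : 5 ≤ Fintype.card α := by omega
  obtain ⟨x, hx⟩ := hfd.nonempty
  obtain ⟨t, hL⟩ := hlab x hx
  obtain ⟨a, ha, hxa⟩ := hrk.exCol x hx
  obtain ⟨r, hr⟩ : ∃ r, Root t a r := exists_root hrk hn hlab hx ha hxa hL
  have mt : ∀ i j, i ≠ j → t i j ∈ D := fun i j hij => (hL.mem i j hij).1
  have xt : ∀ i j, i ≠ j → Commute x (t i j) := fun i j hij => (hL.mem i j hij).2.2
  set A : α → G := fun j => if j = r then a else cj (t r j) a with hA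
  have Ar : A r = a := by rw [hA]; exact if_pos rfl
  have Aj : ∀ j, j ≠ r → A j = cj (t r j) a := fun j hj => by rw [hA]; exact if_neg hj
  have mA : ∀ i, A i ∈ D := by
    intro i
    by_cases hi : i = r
    · rw [hi, Ar]; exact ha
    · rw [Aj i hi]; exact cj_mem hfd ha
  have xA : ∀ i, ¬ Commute x (A i) := by
    intro i h
    by_cases hi : i = r
    · rw [hi, Ar] at h; exact hxa h
    · rw [Aj i hi, ← commute_cj (g := t r i), cj_cj_self hfd (mt r i (Ne.symm hi)),
        cj_of_commute (xt r i (Ne.symm hi)).symm] at h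
      exact hxa h
  have tA : ∀ k, Root t (A k) k := by
    intro k
    by_cases hk : k = r
    · rw [hk, Ar]; exact hr
    · rw [Aj k hk]; exact root_cj hfd h5 hL hr hk
  have mv : ∀ j k, j ≠ k → cj (t j k) (A j) = A k := by
    intro j k hjk
    by_cases hj : j = r
    · subst hj
      rw [Ar, Aj k hjk.symm]
    by_cases hk : k = r
    · subst hk
      rw [Ar, Aj j hj, hL.symm j k, cj_cj_self hfd (mt k j hjk.symm)]
    rw [Aj j hj, Aj k hk, cj_cj', cj_of_commute ((hr j k hjk).2 ⟨hj, hk⟩), hL.symm r j,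
      hL.symm j k, third_loc hfd h5 hL hjk.symm hj hk, hL.symm]
  refine ⟨ext t x A, ext_labels hfd hx hL mA xA tA mv ?_⟩
  intro b hb hxb
  obtain ⟨j, hj⟩ : ∃ r, Root t b r := exists_root hrk hn hlab hx hb hxb hL
  exact ⟨j, root_unique hfd h5 hlab hL hx (mA j) hb (xA j) hxb (tA j) hj⟩

end Up

/-- Case (A): locally symmetric of degree `5` or at least `7` -/
theorem isSym_up (hrk : Rk D) {n : ℕ} (hn : n = 5 ∨ 7 ≤ n)
    (h : ∀ x ∈ D, IsSym n (Loc D x)) : IsSym (n + 2) D := by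
  obtain ⟨T, hT⟩ := exists_labels (α := Fin n) hrk (by simpa using hn)
    (fun x hx => labels_of_isSym (h x hx))
  exact isSym_of_labels hT (by simp) (by omega)

end Cfsg.Agent.Fischer886.SymUp
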