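import Mathlib
import Cfsg.Agent.Fischer886.SymUp
import Cfsg.Agent.Fischer886.SymSix
import Cfsg.Agent.Fischer160.Inherit

set_option autoImplicit false

/-!
# S0480, field `caseA` of `Fischer480.Main.Pieces`, from the field `caseB`
-/

namespace Cfsg.Agent.Fischer886.CaseA

open Cfsg Cfsg.Agent.SporadicStructure.FischerSpace Cfsg.Agent.ThreeTransPolar.Basic
open Cfsg.Agent.Fischer480.Defs

universe u

theorem rk_of_FGroup {G : Type u} [Group G] [Finite G] {D : Set G} (h : FGroup D) : Rk D :=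
  Cfsg.Agent.Fischer160.Inherit.rk_of_FGroup ⟨fdata_of_class h.cls, h.sol, h.perf⟩

/-- (A), `n ≠ 6` -/
theorem isSym_of_loc {G : Type u} [Group G] [Finite G] {D : Set G} (h : FGroup D) {n : ℕ}
    (hn : n = 5 ∨ 7 ≤ n) (hloc : ∀ x ∈ D, IsSym n (Loc D x)) : IsSym (n + 2) D :=
  SymUp.isSym_up (rk_of_FGroup h) hn hloc

/-- (A), from (B) -/
theorem caseA_of_caseB
    (hB : ∀ {G : Type u} [Group G] [Finite G] {D : Set G}, FGroup D → ∀ n, 2 ≤ n →
      (∀ x ∈ D, IsSp n (Loc D x)) → InList D)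
    {G : Type u} [Group G] [Finite G] {D : Set G} (h : FGroup D) (n : ℕ) (hn : 5 ≤ n)
    (hloc : ∀ x ∈ D, IsSym n (Loc D x)) : InList D := by
  by_cases h6 : n = 6
  · subst h6
    exact hB h 2 le_rfl (fun x hx => SymSix.isSp_of_isSym (hloc x hx))
  · exact Or.inl ⟨n + 2, by omega, isSym_of_loc h (by omega) hloc⟩

end Cfsg.Agent.Fischer886.CaseA
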